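import Mathlib
import Cfsg.Agent.FrobOrder.Basic
import Cfsg.Agent.Frob.Structure
import Cfsg.Agent.CoprimeAction.Conjugacy
import Cfsg.Agent.H29.PG.Triangle

/-!
The structure and the prime graph of a 2-Frobenius group.
-/

set_option autoImplicit false
set_option maxHeartbeats 1000000

namespace Cfsg.Agent.TwoFrobenius

open CfsgLib.Frob
open scoped Pointwise

universe u

/-- Sylow subgroups of a finite nilpotent group are normal. -/
theorem sylow_normal {Q : Type*} [Group Q] [Finite Q] (hQ : Group.IsNilpotent Q) {p : ℕ}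
    [Fact p.Prime] (P : Sylow p Q) : (P : Subgroup Q).Normal := by
  have h : Group.IsNilpotent Q ↔ ∀ (p : ℕ) (_ : Fact p.Prime) (P : Sylow p Q),
      (P : Subgroup Q).Normal := (Group.isNilpotent_of_finite_tfae (G := Q)).out 0 3
  exact h.mp hQ p inferInstance P

/-- The complements of a Frobenius group with all Sylow subgroups cyclic and nilpotent are cyclic. -/
theorem isCyclic_of_latFpf {Q : Type*} [Group Q] [Finite Q] (h : LatFpf Q)
    [Group.IsNilpotent Q] (h2 : ¬ 2 ∣ Nat.card Q ∨ IsMulCommutative Q) : IsCyclic Q := by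
  haveI : IsZGroup Q := ⟨fun p hp P => by
    haveI := Fact.mk hp
    rcases h.sylow_cyclic_or_quaternion P.isPGroup' with hc | ⟨rfl, k, hk, ⟨e⟩⟩
    · exact hc
    · exfalso
      rcases h2 with h2 | h2
      · apply h2
        have h4 : 2 ∣ Nat.card (P : Subgroup Q) := by
          haveI : NeZero (2 ^ k) := ⟨by positivity⟩
          rw [Nat.card_congr e.toEquiv, Nat.card_eq_fintype_card, QuaternionGroup.card]
          exact ⟨2 * 2 ^ k, by ring⟩
        exact h4.trans (Subgroup.card_subgroup_dvd_card _)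
      · have hc : (QuaternionGroup.a 1 : QuaternionGroup (2 ^ k)) * QuaternionGroup.xa 0 =
            QuaternionGroup.xa 0 * QuaternionGroup.a 1 := by
          have := congrArg e (show e.symm (QuaternionGroup.a 1) * e.symm (QuaternionGroup.xa 0) =
            e.symm (QuaternionGroup.xa 0) * e.symm (QuaternionGroup.a 1) from
            Subtype.ext (h2.is_comm.comm _ _))
          simpa using this
        rw [QuaternionGroup.a_mul_xa, QuaternionGroup.xa_mul_a, QuaternionGroup.xa.injEq] at hc
        have h2k : ((2 : ℕ) : ZMod (2 * 2 ^ k)) = 0 := by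
          push_cast
          linear_combination -hc
        rw [ZMod.natCast_eq_zero_iff] at h2k
        have := Nat.le_of_dvd (by norm_num) h2k
        have := Nat.pow_le_pow_right (show 2 > 0 by norm_num) hk
        omega⟩
  infer_instance

/-- A nilpotent Frobenius kernel has no unique involution. -/
theorem not_two_dvd {X : Type*} [Group X] [Finite X] {D : Subgroup X}
    (hD : Cfsg.IsFrobeniusComplement D) {Q : Type*} [Group Q] [Finite Q] (h : LatFpf Q)
    [Group.IsNilpotent Q] (f : kernel hD ≃* Q) : ¬ 2 ∣ Nat.card Q := by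
  intro h2
  haveI : Fact (Nat.Prime 2) := ⟨Nat.prime_two⟩
  obtain ⟨z, hz⟩ := exists_prime_orderOf_dvd_card' 2 h2
  obtain ⟨S⟩ : Nonempty (Sylow 2 Q) := inferInstance
  have hS : (S : Subgroup Q).Normal := sylow_normal inferInstance S
  have hmem : ∀ a : Q, orderOf a = 2 → a ∈ (S : Subgroup Q) := by
    intro a ha
    have hp : IsPGroup 2 (Subgroup.zpowers a) :=
      IsPGroup.of_card (n := 1) (by rw [Nat.card_zpowers, ha, pow_one])
    obtain ⟨T, hT⟩ := hp.exists_le_sylow
    haveI := hS
    haveI := Sylow.unique_of_normal S hS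
    exact (Subsingleton.elim T S) ▸ hT (Subgroup.mem_zpowers a)
  have huniq : ∀ a : Q, orderOf a = 2 → a = z := by
    intro a ha
    have hz1 : (⟨z, hmem z hz⟩ : (S : Subgroup Q)) ≠ 1 := fun e => by
      rw [show z = 1 from congrArg Subtype.val e, orderOf_one] at hz
      norm_num at hz
    obtain ⟨k, hk⟩ := h.uniqueOrderP S.isPGroup' ⟨z, hmem z hz⟩ ⟨a, hmem a ha⟩
      (Subtype.ext (orderOf_dvd_iff_pow_eq_one.1 hz.dvd))
      (Subtype.ext (orderOf_dvd_iff_pow_eq_one.1 ha.dvd)) hz1
    have hk' : z ^ k = a := congrArg Subtype.val hk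
    rcases Int.emod_two_eq_zero_or_one k with h0 | h0
    · rw [← zpow_mod_orderOf, hz, Nat.cast_ofNat, h0, zpow_zero] at hk'
      rw [← hk', orderOf_one] at ha
      norm_num at ha
    · rw [← zpow_mod_orderOf, hz, Nat.cast_ofNat, h0, zpow_one] at hk'
      exact hk'.symm
  obtain ⟨d, hd, hd1⟩ := exists_ne_one hD
  haveI := kernel_normal hD
  have hzo : orderOf (f.symm z) = 2 := by rw [MulEquiv.orderOf_eq, hz]
  have hfix : f (MulAut.conjNormal d (f.symm z)) = z :=
    huniq _ (by rw [MulEquiv.orderOf_eq, MulEquiv.orderOf_eq, hzo])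
  rw [← f.eq_symm_apply] at hfix
  have hfix' : d * (f.symm z : X) * d⁻¹ = f.symm z := by
    have := congrArg Subtype.val hfix
    rwa [MulAut.conjNormal_apply] at this
  have hmem' : (f.symm z : X) ∈ kernel hD ⊓ Subgroup.centralizer ({d} : Set X) :=
    ⟨(f.symm z).2, Subgroup.mem_centralizer_singleton_iff.2 (mul_inv_eq_iff_eq_mul.1 hfix').symm⟩
  rw [kernel_inf_centralizer hD hd hd1, Subgroup.mem_bot] at hmem'
  have h1 : f.symm z = 1 := Subtype.ext hmem'
  rw [h1, orderOf_one] at hzo
  exact absurd hzo (by norm_num)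

/-- An element of order `p * q` in an image gives one upstairs. -/
theorem exists_orderOf_of_map {X Y : Type*} [Group X] [Finite X] [Group Y] (f : X →* Y) (g : X)
    {n : ℕ} (hn : n ∣ orderOf (f g)) : ∃ x : X, orderOf x = n := by
  obtain ⟨k, hk⟩ := hn.trans (orderOf_map_dvd f g)
  have hpos := orderOf_pos g
  refine ⟨g ^ k, ?_⟩
  have hk0 : k ≠ 0 := by
    rintro rfl
    rw [mul_zero] at hk
    omega
  rw [orderOf_pow_of_dvd hk0 ⟨n, by rw [hk, mul_comm]⟩, hk, Nat.mul_div_cancel _ (Nat.pos_of_ne_zero hk0)]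

/-- A cyclic group has elements of every order dividing its own. -/
theorem exists_orderOf_of_cyclic {Q : Type*} [Group Q] [Finite Q] [IsCyclic Q] {n : ℕ}
    (hn : n ∣ Nat.card Q) : ∃ g : Q, orderOf g = n := by
  obtain ⟨g, hg⟩ := IsCyclic.exists_generator (α := Q)
  have hgo : orderOf g = Nat.card Q := orderOf_eq_card_of_forall_mem_zpowers hg
  exact exists_orderOf_of_map (MonoidHom.id Q) g (hgo.symm ▸ hn)

theorem main {G : Type u} [Group G] [Finite G] (H K : Subgroup G) [H.Normal] [K.Normal] (hlt : H < K)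
    (hK : ∃ C : Subgroup ↥K, Cfsg.IsFrobeniusComplement C ∧
      Cfsg.frobeniusKernel C = (H.subgroupOf K : Set ↥K))
    (hGH : ∃ C : Subgroup (G ⧸ H), Cfsg.IsFrobeniusComplement C ∧
      Cfsg.frobeniusKernel C = (K.map (QuotientGroup.mk' H) : Set (G ⧸ H))) :
    Group.IsSolvable G ∧ Odd (Nat.card (↥K ⧸ H.subgroupOf K)) ∧
      Nat.Coprime (Nat.card (↥K ⧸ H.subgroupOf K)) (Nat.card ↥H * Nat.card (G ⧸ K)) ∧
      IsCyclic (G ⧸ K) ∧
      ∀ p q : ℕ, p.Prime → q.Prime → p ≠ q → p ∣ Nat.card G → q ∣ Nat.card G →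
        ((∃ g : G, orderOf g = p * q) ↔
          (p ∣ Nat.card (↥K ⧸ H.subgroupOf K) ↔ q ∣ Nat.card (↥K ⧸ H.subgroupOf K))) := by
  obtain ⟨C, hC, hCker⟩ := hK
  obtain ⟨D, hD, hDker⟩ := hGH
  have hkC : kernel hC = H.subgroupOf K := SetLike.coe_injective (by rw [coe_kernel, hCker])
  have hkD : kernel hD = K.map (QuotientGroup.mk' H) := SetLike.coe_injective (by rw [coe_kernel, hDker])
  set π := QuotientGroup.mk' H with hπ
  have hπs := QuotientGroup.mk'_surjective H
  have hKC := isComplement'_kernel hC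
  rw [hkC] at hKC
  have hHn : Group.IsNilpotent H := by
    haveI := CfsgLib.FrobOrder.kernel_isNilpotent hC
    have e : kernel hC ≃* H :=
      (MulEquiv.subgroupCongr hkC).trans (Subgroup.subgroupOfEquivOfLe hlt.le)
    exact (Group.nilpotent_of_mulEquiv e)
  -- `C` is isomorphic to `K / H` and to the kernel of `G / H`
  have eC : C ≃* ↥K ⧸ H.subgroupOf K := by
    refine MulEquiv.ofBijective ((QuotientGroup.mk' (H.subgroupOf K)).comp C.subtype) ⟨?_, ?_⟩
    · rw [injective_iff_map_eq_one]
      intro c hc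
      have hc' : (c : K) ∈ H.subgroupOf K := (QuotientGroup.eq_one_iff (c : K)).1 hc
      exact Subtype.ext (Subgroup.disjoint_def.1 hKC.disjoint hc' c.2)
    · intro y
      obtain ⟨x, rfl⟩ := QuotientGroup.mk'_surjective _ y
      obtain ⟨⟨h, c⟩, hhc⟩ := hKC.surjective x
      refine ⟨c, ?_⟩
      show (QuotientGroup.mk' _) (c : K) = QuotientGroup.mk' _ x
      rw [← hhc, map_mul, show QuotientGroup.mk' (H.subgroupOf K) (h : K) = 1 from
        (QuotientGroup.eq_one_iff _).2 h.2, one_mul]
  let fK : C →* kernel hD :=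
    (π.comp (K.subtype.comp C.subtype)).codRestrict _ (fun c => by
      rw [hkD]; exact ⟨(c : K), (c : K).2, rfl⟩)
  have hfK : Function.Bijective fK := by
    constructor
    · rw [injective_iff_map_eq_one]
      intro c hc
      have hc' : ((c : K) : G) ∈ H := (QuotientGroup.eq_one_iff _).1 (congrArg Subtype.val hc)
      exact Subtype.ext (Subgroup.disjoint_def.1 hKC.disjoint
        (Subgroup.mem_subgroupOf.2 hc') c.2)
    · rintro ⟨y, hy⟩
      rw [hkD] at hy
      obtain ⟨x, hx, rfl⟩ := hy
      obtain ⟨⟨h, c⟩, hhc⟩ := hKC.surjective (⟨x, hx⟩ : K)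
      refine ⟨c, Subtype.ext ?_⟩
      show π ((c : K) : G) = π x
      have : x = ((h : K) : G) * ((c : K) : G) := (congrArg Subtype.val hhc).symm
      rw [this, map_mul, show π ((h : K) : G) = 1 from
        (QuotientGroup.eq_one_iff _).2 (Subgroup.mem_subgroupOf.1 h.2), one_mul]
  haveI : Group.IsNilpotent (kernel hD) := CfsgLib.FrobOrder.kernel_isNilpotent hD
  haveI : Group.IsNilpotent C :=
    Group.nilpotent_of_mulEquiv (MulEquiv.ofBijective fK hfK).symm
  have hfC := latFpf_of_complement hC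
  have hCodd : ¬ 2 ∣ Nat.card C :=
    not_two_dvd hD hfC (MulEquiv.ofBijective fK hfK).symm
  haveI hCc : IsCyclic C := isCyclic_of_latFpf hfC (Or.inl hCodd)
  have hcardC : Nat.card C = Nat.card (↥K ⧸ H.subgroupOf K) := Nat.card_congr eC.toEquiv
  have hcardkD : Nat.card (kernel hD) = Nat.card C :=
    (Nat.card_congr (MulEquiv.ofBijective fK hfK).toEquiv).symm
  -- `D` is isomorphic to `G / K`
  let fD : D →* G ⧸ K :=
    (QuotientGroup.map H K (MonoidHom.id G) (by simpa using hlt.le)).comp D.subtype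
  have hKD := isComplement'_kernel hD
  have hmapK : ∀ y : G ⧸ H, QuotientGroup.map H K (MonoidHom.id G) (by simpa using hlt.le) y = 1 ↔
      y ∈ kernel hD := by
    intro y
    obtain ⟨x, rfl⟩ := hπs y
    rw [hkD]
    constructor
    · intro h
      exact ⟨x, (QuotientGroup.eq_one_iff x).1 h, rfl⟩
    · rintro ⟨z, hz, hzx⟩
      have : z⁻¹ * x ∈ H := QuotientGroup.eq.1 hzx
      refine (QuotientGroup.eq_one_iff x).2 ?_
      simpa using K.mul_mem hz (hlt.le this)
  have hfDb : Function.Bijective fD := by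
    constructor
    · rw [injective_iff_map_eq_one]
      intro d hd
      exact Subtype.ext (Subgroup.disjoint_def.1 hKD.disjoint ((hmapK _).1 hd) d.2)
    · intro y
      obtain ⟨x, rfl⟩ := QuotientGroup.mk'_surjective K y
      obtain ⟨⟨k, d⟩, hkd⟩ := hKD.surjective (π x)
      refine ⟨d, ?_⟩
      show _ = QuotientGroup.map H K (MonoidHom.id G) (by simpa using hlt.le) (π x)
      rw [← hkd, map_mul, (hmapK _).2 k.2, one_mul]
      rfl
  haveI : IsMulCommutative D := by
    haveI : IsCyclic (kernel hD) :=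
      isCyclic_of_surjective fK hfK.2
    haveI := kernel_normal hD
    let φ : D →* MulAut (kernel hD) := MulAut.conjNormal.comp D.subtype
    have hφ : Function.Injective φ := by
      rw [injective_iff_map_eq_one]
      intro d hd
      by_contra hd1
      obtain ⟨⟨k, hk⟩, hk1⟩ : ∃ k : kernel hD, k ≠ 1 :=
        @exists_ne _ ((Subgroup.nontrivial_iff_ne_bot _).2 (kernel_ne_bot hD)) 1
      have h1 : (d : G ⧸ H) * k * (d : G ⧸ H)⁻¹ = k := by
        have := congrArg Subtype.val (DFunLike.congr_fun hd ⟨k, hk⟩)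
        simpa [φ, MulAut.conjNormal_apply] using this
      have hmem : k ∈ kernel hD ⊓ Subgroup.centralizer ({(d : G ⧸ H)} : Set (G ⧸ H)) :=
        ⟨hk, Subgroup.mem_centralizer_singleton_iff.2 (mul_inv_eq_iff_eq_mul.1 h1).symm⟩
      rw [kernel_inf_centralizer hD d.2 (fun e => hd1 (Subtype.ext e)), Subgroup.mem_bot] at hmem
      exact hk1 (Subtype.ext hmem)
    exact ⟨⟨fun a b => hφ (by
      obtain ⟨g, hg⟩ := IsCyclic.exists_generator (α := kernel hD)
      obtain ⟨m, hm⟩ := Subgroup.mem_zpowers_iff.1 (hg (φ a g))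
      obtain ⟨l, hl⟩ := Subgroup.mem_zpowers_iff.1 (hg (φ b g))
      refine MulEquiv.ext fun x => ?_
      obtain ⟨i, rfl⟩ := Subgroup.mem_zpowers_iff.1 (hg x)
      simp only [map_mul, MulAut.mul_apply, map_zpow]
      rw [← hl, ← hm, map_zpow, map_zpow, ← hl, ← hm, ← zpow_mul, ← zpow_mul, ← zpow_mul,
        ← zpow_mul]
      congr 1
      ring)⟩⟩
  haveI hDn : Group.IsNilpotent D := by
    letI : CommGroup D :=
      { (inferInstance : Group D) with mul_comm := fun a b => (inferInstance : IsMulCommutative D).is_comm.comm a b }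
    infer_instance
  haveI : IsCyclic D := isCyclic_of_latFpf (latFpf_of_complement hD) (Or.inr inferInstance)
  haveI hGKc : IsCyclic (G ⧸ K) := isCyclic_of_surjective fD hfDb.2
  have hcardD : Nat.card D = Nat.card (G ⧸ K) := Nat.card_congr (MulEquiv.ofBijective fD hfDb).toEquiv
  have hcH : (Nat.card H).Coprime (Nat.card C) := by
    have := coprime_card_kernel hC
    rwa [hkC, Nat.card_congr (Subgroup.subgroupOfEquivOfLe hlt.le).toEquiv] at this
  have hcD : (Nat.card C).Coprime (Nat.card D) := hcardkD ▸ coprime_card_kernel hD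
  have hsolv : Group.IsSolvable G := by
    haveI hKs : Group.IsSolvable K := by
      haveI : Group.IsNilpotent (H.subgroupOf K) :=
        Group.nilpotent_of_mulEquiv (Subgroup.subgroupOfEquivOfLe hlt.le).symm
      haveI : Group.IsNilpotent (↥K ⧸ H.subgroupOf K) := Group.nilpotent_of_mulEquiv eC
      exact solvable_of_ker_le_range (H.subgroupOf K).subtype
        (QuotientGroup.mk' (H.subgroupOf K)) (by simp)
    haveI : Group.IsSolvable (G ⧸ K) := by
      letI := IsCyclic.commGroup (α := G ⧸ K)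
      infer_instance
    exact solvable_of_ker_le_range K.subtype (QuotientGroup.mk' K) (by simp)
  refine ⟨hsolv, ?_, ?_, hGKc, ?_⟩
  · rw [← hcardC]
    exact Nat.odd_iff.2 (Nat.two_dvd_ne_zero.1 hCodd)
  · rw [← hcardC, ← hcardD]
    exact Nat.Coprime.mul_right hcH.symm hcD
  -- the prime graph
  rw [← hcardC]
  have hcardG : Nat.card G = Nat.card H * Nat.card C * Nat.card D := by
    rw [Subgroup.card_eq_card_quotient_mul_card_subgroup H, ← Subgroup.card_mul_index (kernel hD),
      index_kernel, hcardkD]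
    ring
  -- an element of order `p q` across the layers
  have cross : ∀ p q : ℕ, p.Prime → q.Prime → p ∣ Nat.card C → ¬ q ∣ Nat.card C →
      ¬ ∃ g : G, orderOf g = p * q := by
    rintro p q hp hq hpC hqC ⟨g, hg⟩
    have ha : orderOf (g ^ q) = p := by
      rw [orderOf_pow_of_dvd hq.ne_zero (hg ▸ dvd_mul_left q p), hg, Nat.mul_div_cancel _ hq.pos]
    have hb : orderOf (g ^ p) = q := by
      rw [orderOf_pow_of_dvd hp.ne_zero (hg ▸ dvd_mul_right p q), hg, mul_comm,
        Nat.mul_div_cancel _ hp.pos]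
    have hab : g ^ q * g ^ p = g ^ p * g ^ q := by rw [← pow_add, ← pow_add, add_comm]
    have haH : g ^ q ∉ H := fun h => by
      have hd : p ∣ Nat.card H := ha ▸ Subgroup.orderOf_dvd_natCard _ h
      exact hp.ne_one (Nat.eq_one_of_dvd_coprimes hcH hd hpC)
    have haK : g ^ q ∈ K := by
      rw [← QuotientGroup.eq_one_iff]
      refine orderOf_eq_one_iff.1 (Nat.eq_one_of_dvd_coprimes
        (Nat.Coprime.coprime_dvd_left hpC hcD)
        (ha ▸ orderOf_map_dvd (QuotientGroup.mk' K) _) ?_)
      rw [hcardD]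
      exact orderOf_dvd_natCard _
    by_cases hbK : g ^ p ∈ K
    · have hbH : g ^ p ∈ H := by
        rw [← QuotientGroup.eq_one_iff]
        have hmem : π (g ^ p) ∈ kernel hD := by rw [hkD]; exact ⟨_, hbK, rfl⟩
        refine orderOf_eq_one_iff.1 (Nat.eq_one_of_dvd_coprimes
          ((Nat.Prime.coprime_iff_not_dvd hq).2 hqC)
          (hb ▸ orderOf_map_dvd π _) (hcardkD ▸ Subgroup.orderOf_dvd_natCard _ hmem))
      have hb1 : (⟨g ^ p, hbK⟩ : K) ≠ 1 := fun e => by
        have he : g ^ p = 1 := congrArg Subtype.val e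
        rw [he, orderOf_one] at hb
        exact hq.ne_one hb.symm
      have h1 := centralizer_le_kernel hC (k := (⟨g ^ p, hbK⟩ : K))
        (hkC ▸ Subgroup.mem_subgroupOf.2 hbH) hb1
        (Subgroup.mem_centralizer_singleton_iff.2 (Subtype.ext hab : (⟨g ^ q, haK⟩ : K) * _ = _))
      rw [hkC] at h1
      exact haH (Subgroup.mem_subgroupOf.1 h1)
    · have hamem : π (g ^ q) ∈ kernel hD := by rw [hkD]; exact ⟨_, haK, rfl⟩
      have ha1 : π (g ^ q) ≠ 1 := fun e => haH ((QuotientGroup.eq_one_iff _).1 e)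
      have h1 := centralizer_le_kernel hD hamem ha1
        (Subgroup.mem_centralizer_singleton_iff.2 (show π (g ^ p) * π (g ^ q) = π (g ^ q) * π (g ^ p) by
          rw [← map_mul, ← map_mul, hab]))
      rw [hkD] at h1
      obtain ⟨z, hz, hzx⟩ := h1
      exact hbK (by simpa using K.mul_mem hz (hlt.le (QuotientGroup.eq.1 hzx)))
  -- an element of order `p q` between the bottom and the top layer
  have topbot : ∀ p q : ℕ, p.Prime → q.Prime → p ≠ q → p ∣ Nat.card H → q ∣ Nat.card D →
      ∃ g : G, orderOf g = p * q := by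
    intro p q hp hq hpq hpH hqD
    haveI := Fact.mk hp
    haveI := Fact.mk hq
    by_contra hno
    set C' : Subgroup G := C.map K.subtype with hC'
    have hC'K : C' ≤ K := Subgroup.map_subtype_le C
    have hC'H : ∀ x ∈ C', x ∈ H → x = 1 := by
      rintro _ ⟨c, hc, rfl⟩ hxH
      have := Subgroup.disjoint_def.1 hKC.disjoint (Subgroup.mem_subgroupOf.2 hxH) hc
      simp [this]
    set N := Subgroup.normalizer (C' : Set G) with hN
    haveI : Group.IsSolvable (H.subgroupOf K) :=
      solvable_of_solvable_injective (f := (H.subgroupOf K).subtype.comp (MonoidHom.id _))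
        Subtype.coe_injective
    have hHK : ((H.subgroupOf K).index) = Nat.card C := hKC.symm.index_eq_card
    have hNK : ∀ g : G, ∃ k ∈ K, k⁻¹ * g ∈ N := by
      intro g
      set L : Subgroup K := (MulAut.conj g • C').subgroupOf K with hL
      have hLle : MulAut.conj g • C' ≤ K := by
        rintro _ ⟨x, hx, rfl⟩
        exact ‹K.Normal›.conj_mem x (hC'K hx) g
      have hLcard : Nat.card L = Nat.card C := by
        rw [hL, Nat.card_congr (Subgroup.subgroupOfEquivOfLe hLle).toEquiv,
          CfsgLib.CoprimeAction.card_conj_smul, hC',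
          Subgroup.card_map_of_injective K.subtype_injective]
      have hcompL : Subgroup.IsComplement' (H.subgroupOf K) L := by
        refine Subgroup.isComplement'_of_coprime ?_ ?_
        · rw [hLcard, ← hHK, Subgroup.card_mul_index]
        · rw [hLcard, Nat.card_congr (Subgroup.subgroupOfEquivOfLe hlt.le).toEquiv]
          exact hcH
      obtain ⟨a, -, ha⟩ := CfsgLib.CoprimeAction.complement_conj' (H.subgroupOf K)
        (by rw [hHK, Nat.card_congr (Subgroup.subgroupOfEquivOfLe hlt.le).toEquiv]; exact hcH)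
        (Or.inl inferInstance) hKC hcompL
      refine ⟨a, a.2, ?_⟩
      have hle : MulAut.conj ((a : G)⁻¹ * g) • C' ≤ C' := by
        intro x hx
        rw [map_mul, mul_smul, map_inv, Subgroup.mem_inv_pointwise_smul_iff] at hx
        have hxK : MulAut.conj (a : G) x ∈ K := hLle hx
        have h1 : (⟨_, hxK⟩ : K) ∈ L := Subgroup.mem_subgroupOf.2 hx
        rw [← ha, CfsgLib.CoprimeAction.mem_conj_smul] at h1
        refine ⟨_, h1, ?_⟩
        simp [MulAut.conj_apply, mul_assoc]
      have heq := Subgroup.eq_of_le_of_card_ge hle (by rw [CfsgLib.CoprimeAction.card_conj_smul])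
      rw [hN, Subgroup.mem_normalizer_iff]
      intro x
      conv_rhs => rw [← heq, Subgroup.mem_pointwise_smul_iff_inv_smul_mem]
      simp [MulAut.smul_def, mul_assoc]
    have hqN : q ∣ Nat.card N := by
      have hs : Function.Surjective ((QuotientGroup.mk' K).comp N.subtype) := by
        intro y
        obtain ⟨g, rfl⟩ := QuotientGroup.mk'_surjective K y
        obtain ⟨k, hk, hkN⟩ := hNK g
        refine ⟨⟨_, hkN⟩, ?_⟩
        show QuotientGroup.mk' K (k⁻¹ * g) = _
        rw [map_mul, show QuotientGroup.mk' K k⁻¹ = 1 from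
          (QuotientGroup.eq_one_iff _).2 (K.inv_mem hk), one_mul]
      exact (hqD.trans (dvd_of_eq hcardD)).trans (Subgroup.card_dvd_of_surjective _ hs)
    obtain ⟨y, hy⟩ := exists_prime_orderOf_dvd_card' q hqN
    set x : G := (y : G) with hx
    have hxo : orderOf x = q := by rw [hx, Subgroup.orderOf_coe, hy]
    have hx1 : x ≠ 1 := fun e => hq.ne_one (by rw [← hxo, e, orderOf_one])
    have hqC : ¬ q ∣ Nat.card C := fun h => hq.ne_one (Nat.eq_one_of_dvd_coprimes hcD h hqD)
    have hcardC' : Nat.card C' = Nat.card C := Subgroup.card_map_of_injective K.subtype_injective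
    have hfixC : ∀ a ∈ C', ∀ z : G, z ∈ H → a ≠ 1 → a * z = z * a → z = 1 := by
      rintro _ ⟨c, hc, rfl⟩ z hz hc1 hcomm
      have hmem : (⟨z, hlt.le hz⟩ : K) ∈ kernel hC ⊓ Subgroup.centralizer ({c} : Set K) :=
        ⟨hkC ▸ Subgroup.mem_subgroupOf.2 hz,
          Subgroup.mem_centralizer_singleton_iff.2 (Subtype.ext hcomm.symm)⟩
      rw [kernel_inf_centralizer hC hc (fun e => hc1 (by simp [e])), Subgroup.mem_bot] at hmem
      exact congrArg Subtype.val hmem
    have hxH : x ∉ H := by
      intro hxH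
      have hC'ne : C' ≠ ⊥ := by
        rw [hC', Ne, Subgroup.map_eq_bot_iff_of_injective _ K.subtype_injective]
        exact hC.1
      obtain ⟨c, hc, hc1⟩ := C'.bot_or_exists_ne_one.resolve_left hC'ne
      have h1 : x * c * x⁻¹ * c⁻¹ = 1 := by
        refine hC'H _ (C'.mul_mem ((Subgroup.mem_normalizer_iff.1 y.2 c).1 hc) (C'.inv_mem hc)) ?_
        have : x * c * x⁻¹ * c⁻¹ = x * (c * x⁻¹ * c⁻¹) := by group
        rw [this]
        exact H.mul_mem hxH (‹H.Normal›.conj_mem _ (H.inv_mem hxH) c)
      rw [mul_inv_eq_one, mul_inv_eq_iff_eq_mul] at h1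
      exact hx1 (hfixC c hc x hxH hc1 h1.symm)
    have hxK : x ∉ K := fun h => by
      have hmem : π x ∈ kernel hD := by rw [hkD]; exact ⟨_, h, rfl⟩
      refine hxH ((QuotientGroup.eq_one_iff x).1 (orderOf_eq_one_iff.1 (Nat.eq_one_of_dvd_coprimes
        ((Nat.Prime.coprime_iff_not_dvd hq).2 hqC)
        (hxo ▸ orderOf_map_dvd π x) (hcardkD ▸ Subgroup.orderOf_dvd_natCard _ hmem))))
    obtain ⟨P⟩ : Nonempty (Sylow p H) := inferInstance
    haveI hPc : (P : Subgroup H).Characteristic := Sylow.characteristic_of_normal P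
      (sylow_normal hHn P)
    set P' : Subgroup G := (P : Subgroup H).map H.subtype with hP'
    haveI hP'n : P'.Normal := ConjAct.normal_of_characteristic_of_normal
    have hP'H : P' ≤ H := Subgroup.map_subtype_le _
    have hP'p : IsPGroup p P' := P.isPGroup'.map _
    have hP'ne : P' ≠ ⊥ := by
      rw [hP', Ne, Subgroup.map_eq_bot_iff_of_injective _ H.subtype_injective]
      exact P.ne_bot_of_dvd_card hpH
    set V := CfsgLib.H29.PG.centre P' with hV
    haveI := CfsgLib.H29.PG.centre_comm P'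
    obtain ⟨v, hv, hv1⟩ := V.bot_or_exists_ne_one.resolve_left
      (CfsgLib.H29.PG.centre_ne_bot hP'p hP'ne)
    have hnV : ∀ g : G, g ∈ Subgroup.normalizer (V : Set G) := fun g =>
      CfsgLib.H29.PG.normalizer_le_centre P'
        (Subgroup.normalizer_eq_top_iff.2 hP'n ▸ Subgroup.mem_top g)
    have hVH : ∀ w ∈ V, w ∈ H := fun w hw => hP'H hw.1
    have hC'ne : C' ≠ ⊥ := by
      rw [hC', Ne, Subgroup.map_eq_bot_iff_of_injective _ K.subtype_injective]
      exact hC.1
    have hpow := CfsgLib.Hall.pow_card_eq_one_of_frobenius_action V C' x q hq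
      (by rw [← hxo, pow_orderOf_eq_one]) hx1 (fun a _ => hnV a) (hnV x) y.2 hC'ne
      (fun w hw a ha ha1 hc => hfixC a ha w (hVH w hw) ha1 hc)
      (fun w hw a _ hc => by
        by_contra hw1
        exact hno (CfsgLib.H29.PG.exists_orderOf_prime_mul hp hq hpq
          (CfsgLib.H29.PG.exists_pow_of_mem hP'p hw.1) hw1
          ⟨1, by rw [pow_one, ← hxo]; exact (MulAut.conj a).orderOf_eq x⟩
          (fun h => hx1 (conj_eq_one_iff.mp h)) hc.symm))
      (fun a ha i hi hiq hc => by
        by_contra ha1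
        have hamem : π a ∈ kernel hD := by rw [hkD]; exact ⟨_, hC'K ha, rfl⟩
        have hπa : π a ≠ 1 := fun e => ha1 (hC'H a ha ((QuotientGroup.eq_one_iff a).1 e))
        have h1 := centralizer_le_kernel hD hamem hπa
          (Subgroup.mem_centralizer_singleton_iff.2
            (show π (x ^ i) * π a = π a * π (x ^ i) by rw [← map_mul, ← map_mul, hc]))
        rw [hkD] at h1
        obtain ⟨z, hz, hzx⟩ := h1
        have hxi : x ^ i ∈ K := by simpa using K.mul_mem hz (hlt.le (QuotientGroup.eq.1 hzx))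
        obtain ⟨m, hm⟩ := exists_pow_eq_self_of_coprime (x := x) (n := i) (by
          rw [hxo]
          exact ((Nat.Prime.coprime_iff_not_dvd hq).2 (Nat.not_dvd_of_pos_of_lt hi hiq)).symm)
        exact hxK (hm ▸ K.pow_mem hxi m))
      v hv
    obtain ⟨i, hi⟩ := CfsgLib.H29.PG.exists_pow_of_mem hP'p hv.1
    refine hv1 (orderOf_eq_one_iff.1 (Nat.eq_one_of_dvd_coprimes hcH
      ((Subgroup.orderOf_dvd_natCard _ (hVH v hv))) (hcardC' ▸ orderOf_dvd_of_pow_eq_one hpow)))
  intro p q hp hq hpq hpG hqG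
  haveI := Fact.mk hp
  haveI := Fact.mk hq
  constructor
  · intro h
    by_cases hpC : p ∣ Nat.card C
    · by_contra hc
      exact cross p q hp hq hpC (fun hqC => hc ⟨fun _ => hqC, fun _ => hpC⟩) h
    · by_contra hc
      have hqC : q ∣ Nat.card C := by
        by_contra hqC
        exact hc ⟨fun hh => absurd hh hpC, fun hh => absurd hh hqC⟩
      exact cross q p hq hp hqC hpC (by rwa [mul_comm] at h)
  · intro h
    by_cases hpC : p ∣ Nat.card C
    · have hqC := h.1 hpC
      obtain ⟨c, hc⟩ := exists_orderOf_of_cyclic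
        (((Nat.coprime_primes hp hq).2 hpq).mul_dvd_of_dvd_of_dvd hpC hqC)
      exact ⟨((c : K) : G), by rw [Subgroup.orderOf_coe, Subgroup.orderOf_coe, hc]⟩
    · have hqC : ¬ q ∣ Nat.card C := fun hh => hpC (h.2 hh)
      have hsplit : ∀ r : ℕ, r.Prime → r ∣ Nat.card G → ¬ r ∣ Nat.card C →
          r ∣ Nat.card H ∨ r ∣ Nat.card D := by
        intro r hr hrG hrC
        rw [hcardG] at hrG
        rcases hr.dvd_mul.1 hrG with h1 | h1
        · exact Or.inl ((hr.dvd_mul.1 h1).resolve_right hrC)
        · exact Or.inr h1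
      rcases hsplit p hp hpG hpC with hpH | hpD
      · rcases hsplit q hq hqG hqC with hqH | hqD
        · -- both in the nilpotent bottom layer
          obtain ⟨a, ha⟩ := exists_prime_orderOf_dvd_card' p hpH
          obtain ⟨b, hb⟩ := exists_prime_orderOf_dvd_card' q hqH
          haveI := hHn
          obtain ⟨S, hS⟩ := (IsPGroup.of_card (n := 1)
            (by rw [Nat.card_zpowers, ha, pow_one]) : IsPGroup p (Subgroup.zpowers a)).exists_le_sylow
          haveI : (S : Subgroup H).Normal :=
            sylow_normal hHn S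
          have hcomm : a * b = b * a := (CfsgLib.ZJ.mul_comm_of_coprime_of_isNilpotent S.isPGroup'
            (g := b) (by rw [hb]; exact (Nat.coprime_primes hq hp).2 (Ne.symm hpq))
            (hS (Subgroup.mem_zpowers a))).symm
          exact CfsgLib.H29.PG.exists_orderOf_prime_mul hp hq hpq (a := (a : G)) (b := (b : G))
            ⟨1, by rw [Subgroup.orderOf_coe, ha, pow_one]⟩
            (fun e => hp.ne_one (by rw [← ha, ← Subgroup.orderOf_coe, e, orderOf_one]))
            ⟨1, by rw [Subgroup.orderOf_coe, hb, pow_one]⟩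
            (fun e => hq.ne_one (by rw [← hb, ← Subgroup.orderOf_coe, e, orderOf_one]))
            (congrArg Subtype.val hcomm)
        · exact topbot p q hp hq hpq hpH hqD
      · rcases hsplit q hq hqG hqC with hqH | hqD
        · obtain ⟨g, hg⟩ := topbot q p hq hp (Ne.symm hpq) hqH hpD
          exact ⟨g, by rw [hg, mul_comm]⟩
        · obtain ⟨d, hd⟩ := exists_orderOf_of_cyclic
            (((Nat.coprime_primes hp hq).2 hpq).mul_dvd_of_dvd_of_dvd hpD hqD)
          obtain ⟨g, hg⟩ := hπs (d : G ⧸ H)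
          exact exists_orderOf_of_map π g (by rw [hg, Subgroup.orderOf_coe, hd])

end Cfsg.Agent.TwoFrobenius
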